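import Cfsg.Agent.Mrg.Omega.Lie.CenSL
import Cfsg.Agent.KFacts.He.Hyp
import Cfsg.Agent.KFacts.TwoSix.Sheet


/-!
# (ZS), the row `He` (helper484)
-/

set_option autoImplicit false

namespace Cfsg.Agent.Omega.Lie.Cen

open Cfsg Cfsg.Agent.Omega.Lie.CenTwo Cfsg.Agent.KFacts.He.Hyp Cfsg.Agent.SporadicRecognition.HeldModel
open Cfsg.Agent.KFacts.TwoSix.SheetDef Cfsg.Agent.KFacts.TwoSix.Sheet

theorem cenTwo_he : CenTwo.CenTwo Spor.He := by
  have := finHe
  have hs := sheet_of hyp.inj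
  refine cenTwo_of_centralizer (E := im iota QQ) (IsPGroup.of_card (n := 7) (by rw [hs.cardR]; norm_num))
    (z := iota zC) ?_
  intro u hu _
  refine hs.cR u ?_ fun r hr => (hu r hr).symm
  rw [hyp.range, Subgroup.mem_centralizer_singleton_iff]
  have h1 := hu _ (hs.h1.ER hs.h1.zE)
  rw [hyp.map_zz] at h1
  exact h1.symm

theorem he {X : Type*} [Group X] (h : Spor.IsoHe X) : NoCenMove X :=
  have := finHe
  noCenMove_of_iso cenTwo_he h

end Cfsg.Agent.Omega.Lie.Cen
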