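import Cfsg.Agent.Mrg.Omega.Lie.CenCover
import Cfsg.Agent.TypeM.FactsMcL
import Cfsg.Agent.TypeM.FactsLy

section


/-!
# (ZS), the row `McL` (helper484)
-/

set_option autoImplicit false

namespace Cfsg.Agent.Omega.Lie.Cen

open Cfsg Cfsg.Agent.Omega.Lie.CenTwo

theorem mcL {X : Type*} [Group X] (h : Spor.IsoMcL X) : NoCenMove X := by
  obtain ⟨hf, -, -, ⟨L⟩⟩ := TypeM.FactsMcL.facts h
  exact (cenTwo_of_mt L).noCenMove

end Cfsg.Agent.Omega.Lie.Cen

end

section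


/-!
# (ZS), the row `Ly` (helper484)
-/

set_option autoImplicit false

namespace Cfsg.Agent.Omega.Lie.Cen

open Cfsg Cfsg.Agent.Omega.Lie.CenTwo

theorem ly {X : Type*} [Group X] (h : Spor.IsoLy X) : NoCenMove X := by
  obtain ⟨hf, -, -, ⟨L⟩⟩ := TypeM.FactsLy.facts h
  exact (cenTwo_of_mt L).noCenMove

end Cfsg.Agent.Omega.Lie.Cen

end
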