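import Cfsg.Agent.Mrg.Omega.Lie.CenSL
import Cfsg.Agent.Omega.Lie.Cen.OfSheet
import Cfsg.Agent.OddHalf.D4.Spor.M11
import Cfsg.Agent.OddHalf.D4.Spor.ON
import Cfsg.Agent.OddHalf.D4.Spor.HN
import Cfsg.Agent.OddHalf.D4.Spor.Ru
import Cfsg.Agent.OddHalf.D4.Spor.ThSheet
import Cfsg.Agent.OddHalf.D4.Spor.MonsterFinal
import Cfsg.Agent.OddHalf.D8.RowCo2
import Cfsg.Agent.KFacts.FiTF.SheetF
import Cfsg.Agent.KFacts.J4.SheetJ4
import Cfsg.Agent.Omega.Lie.CenTwo
import Cfsg.Agent.ChevalleyStructure.Tits.Main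
import Cfsg.Agent.KFacts.HS.Cent5

section


/-!
# (ZS), sporadic rows from the fact sheets of the ODD half (helper844)

The sheets of D8 (`syl : Z(S) = ⟨z⟩`) and of D4 (`z1`) give `CenTwo`, hence `NoCenMove`: the rows `m11`, `on`, `hn`, `th`,
`m`, `ru`, `fi24`, `co2`, `j4` of `KFacts.RowsZS`.
-/

set_option autoImplicit false

namespace Cfsg.Agent.Omega.Lie.Cen.Sheets

open Cfsg Cfsg.Agent.Omega.Lie.CenTwo

/-- the field `syl` of the sheets of D8 -/
theorem cenTwo_of_syl {X : Type*} [Group X] {z : X} (h : ∃ S : Sylow 2 X, z ∈ S ∧ (∀ x ∈ S, x * z = z * x) ∧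
    ∀ y ∈ S, (∀ x ∈ S, x * y = y * x) → y = 1 ∨ y = z) : CenTwo X := by
  obtain ⟨S, -, -, h⟩ := h
  exact ⟨S, z, fun u hu hc _ => h u hu hc⟩

variable {X : Type*} [Group X] [Finite X]

theorem m11 (h : Spor.IsoM11 X) : NoCenMove X := OfSheet.noCenMove (OddHalf.D4.Spor.M11.sheet h)

theorem on (h : Spor.IsoON X) : NoCenMove X := OfSheet.noCenMove (OddHalf.D4.Spor.ON.sheet h)

theorem hn (h : Spor.IsoHN X) : NoCenMove X := by
  obtain ⟨e⟩ := h
  exact OfSheet.noCenMove (OddHalf.D4.Spor.HN.sheet_of_equiv e)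

theorem th (h : Spor.IsoTh X) : NoCenMove X := OfSheet.noCenMove (OddHalf.D4.Spor.ThSheet.sheet_of_iso h)

theorem m (h : Spor.IsoM X) : NoCenMove X := OfSheet.noCenMove (OddHalf.D4.Spor.MonsterFinal.sheet h)

theorem ru (h : Spor.IsoRu X) : NoCenMove X := OfSheet.noCenMove (OddHalf.D4.Spor.Ru.sheet h)

theorem fi24 (h : Spor.IsoFi24' X) : NoCenMove X := by
  obtain ⟨e⟩ := h
  have : Finite Spor.Fi24' := Finite.of_equiv X e.toEquiv
  have h1 : CenTwo Spor.Fi24' := cenTwo_of_syl KFacts.FiTF.sheetE.syl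
  exact h1.noCenMove.map e.symm

theorem co2 (h : Spor.IsoCo2 X) : NoCenMove X := by
  obtain ⟨z, P, R, h1, -⟩ := OddHalf.D8.RowCo2.facts X inferInstance h
  exact (cenTwo_of_syl h1.syl).noCenMove

theorem j4 (h : Spor.IsoJ4 X) : NoCenMove X := by
  obtain ⟨z, P, R, h1⟩ := KFacts.J4.SheetJ4.exists_sheet h
  exact (cenTwo_of_syl h1.syl).noCenMove

end Cfsg.Agent.Omega.Lie.Cen.Sheets

end

section


/-!
# (ZS), the row of the Tits group

The centre of a Sylow 2-subgroup of `²F₄(2)'` has order 2: among the 4096 elements of the unipotent group of `²F₄(2)`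
only `1` and `y₃²` commute with `y₀, y₄, y₆, y₁y₃, y₁y₅`.
-/

set_option autoImplicit false

namespace Cfsg.Agent.Omega.Lie.Cen.Tits

open Cfsg Cfsg.Agent.Omega.Lie.CenTwo
open Cfsg.Agent.ChevalleyStructure.Tits.Pack Cfsg.Agent.ChevalleyStructure.Tits.Data
  Cfsg.Agent.ChevalleyStructure.Tits.Sat Cfsg.Agent.ChevalleyStructure.Tits.Final
  Cfsg.Agent.ChevalleyStructure.Tits.Mat Cfsg.Agent.ChevalleyStructure.Tits.Order
  Cfsg.Agent.ChevalleyStructure.Tits.Main

open scoped MatrixGroups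

/-! ### the check -/

/-- the packed matrices differ (and are small) -/
def dif (A B : ℕ) : Bool := Nat.blt A (2 ^ 2704) && Nat.blt B (2 ^ 2704) && !(Nat.beq A B)

/-- `P` does not commute with `g` -/
def nc (P g : ℕ) : Bool := dif (mulP P g) (mulP g P)

/-- the words of the five elements -/
def gs : List (List ℕ) := [[0], [1, 3], [1, 5], [4], [6]]

/-- the check of an element -/
def f (P : ℕ) : Bool :=
  (gs.any fun g => nc P (evalW g)) || Nat.beq P oneP || Nat.beq P (evalW [3, 3])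

/-- all products of powers of `y_{8-n}, …, y₇`, multiplied by `P` -/
def tree : ℕ → ℕ → Bool
  | 0, P => f P
  | n + 1, P => (List.range (od (7 - n))).all fun a => tree n (mulP P (evalW (List.replicate a (7 - n))))

theorem tree_ok : tree 8 oneP = true := by decide +kernel

/-! ### soundness -/

theorem toMat_inj {a b : ℕ} (ha : a < 2 ^ 2704) (hb : b < 2 ^ 2704) (h : toMat a = toMat b) : a = b := by
  apply Nat.eq_of_testBit_eq
  intro p
  by_cases hp : p < 2704
  · have hix : ∀ i < 52, ∃ r : I52, ix r = i := by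
      intro i hi
      by_cases h4 : i < 4
      · exact ⟨Sum.inl ⟨i, h4⟩, rfl⟩
      · refine ⟨Sum.inr ⟨i - 4, by omega⟩, ?_⟩
        rw [ix_inr]
        show 4 + (i - 4) = i
        omega
    obtain ⟨r, hr⟩ := hix (p % 52) (Nat.mod_lt _ (by norm_num))
    obtain ⟨c, hc⟩ := hix (p / 52) (by omega)
    have h1 := congrFun (congrFun h r) c
    rw [toMat_apply, toMat_apply, hr, hc, Nat.div_add_mod] at h1
    revert h1
    cases a.testBit p <;> cases b.testBit p <;> simp [bz]
  · have h52 : 2 ^ 2704 ≤ 2 ^ p := Nat.pow_le_pow_right (by norm_num) (by omega)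
    rw [Nat.testBit_lt_two_pow (lt_of_lt_of_le ha h52), Nat.testBit_lt_two_pow (lt_of_lt_of_le hb h52)]

theorem ne_of_nc {P g : ℕ} (h : nc P g = true) : toMat P * toMat g ≠ toMat g * toMat P := by
  unfold nc dif at h
  rw [Bool.and_eq_true, Bool.and_eq_true, Nat.blt_eq, Nat.blt_eq, Bool.not_eq_true'] at h
  intro h2
  rw [← toMat_mulP, ← toMat_mulP] at h2
  have h3 := h.2
  rw [toMat_inj h.1.1 h.1.2 h2, Nat.beq_refl] at h3
  exact Bool.noConfusion h3

/-- the words of `gs` as elements -/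
theorem eq_of_f {P : ℕ} (h : f P = true) (hc : ∀ g ∈ gs, toMat P * toMat (evalW g) = toMat (evalW g) * toMat P) :
    toMat P = 1 ∨ toMat P = toMat (evalW [3, 3]) := by
  unfold f at h
  rw [Bool.or_eq_true, Bool.or_eq_true, List.any_eq_true] at h
  rcases h with (⟨g, hg, h⟩ | h) | h
  · exact absurd (hc g hg) (ne_of_nc h)
  · left
    rw [Nat.eq_of_beq_eq_true h, toMat_oneP]
  · right
    rw [Nat.eq_of_beq_eq_true h]

theorem tree_sound : ∀ n ≤ 8, ∀ P, tree n P = true → ∀ u ∈ V yG (8 - n),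
    ∃ P', toMat P' = toMat P * ((u : GL I52 (ZMod 2)) : Matrix I52 I52 (ZMod 2)) ∧ f P' = true := by
  intro n
  induction n with
  | zero =>
    intro _ P h u hu
    rw [Nat.sub_zero, V_eight, Subgroup.mem_bot] at hu
    subst hu
    exact ⟨P, by simp, h⟩
  | succ n ih =>
    intro hn P h u hu
    have hk : 8 - (n + 1) < 8 := by omega
    have e1 : 8 - (n + 1) = 7 - n := by omega
    have e2 : 7 - n + 1 = 8 - n := by omega
    rw [e1] at hu hk
    rw [V_succ yG hk] at hu
    obtain ⟨x, hx, k, hkk, rfl⟩ := mem_sup_fac (V_norm Sat_yG hk) u hu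
    rw [e2] at hkk
    have hfin : IsOfFinOrder (yG (7 - n)) := isOfFinOrder_iff_pow_eq_one.mpr ⟨_, od_pos _, pow_od Sat_yG hk⟩
    rw [← hfin.mem_powers_iff_mem_zpowers, hfin.mem_powers_iff_mem_range_orderOf, Finset.mem_image] at hx
    obtain ⟨a, ha, rfl⟩ := hx
    rw [Finset.mem_range] at ha
    have hle : orderOf (yG (7 - n)) ≤ od (7 - n) :=
      Nat.le_of_dvd (od_pos _) (orderOf_dvd_of_pow_eq_one (pow_od Sat_yG hk))
    unfold tree at h
    rw [List.all_eq_true] at h
    obtain ⟨P', h1, h2⟩ := ih (by omega) _ (h a (List.mem_range.2 (lt_of_lt_of_le ha hle))) k hkk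
    refine ⟨P', ?_, h2⟩
    rw [h1, toMat_mulP, toMat_evalW, ← coe_word _ (by
      intro i hi
      rw [List.eq_of_mem_replicate hi]
      omega), Units.val_mul, Matrix.mul_assoc]
    rw [List.map_replicate, List.prod_replicate]

/-- the elements of `V` which commute with the five elements -/
theorem cen_V {u : GL I52 (ZMod 2)} (hu : u ∈ V yG 0)
    (hc : ∀ g ∈ gs, u * (g.map yG).prod = (g.map yG).prod * u) : u = 1 ∨ u = yG 3 * yG 3 := by
  obtain ⟨P, h1, h2⟩ := tree_sound 8 le_rfl _ tree_ok u (by simpa using hu)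
  rw [toMat_oneP, Matrix.one_mul] at h1
  have hlt : ∀ g ∈ gs, ∀ i ∈ g, i < 12 := by decide
  rcases eq_of_f h2 (by
    intro g hg
    rw [h1, toMat_evalW, ← coe_word _ (hlt g hg), ← Units.val_mul, ← Units.val_mul, hc g hg]) with h | h
  · left
    rw [h1] at h
    exact Units.ext h
  · right
    rw [h1, toMat_evalW, ← coe_word _ (by simp)] at h
    rw [Units.ext h]
    simp

/-! ### the Sylow subgroup of the commutator subgroup -/

theorem index_two : (commutator H0).index = 2 := H0_result.1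

theorem mm (a b : H0) : a * b ∈ commutator H0 ↔ (a ∈ commutator H0 ↔ b ∈ commutator H0) :=
  Subgroup.mul_mem_iff_of_index_two index_two

theorem sq_mem (g : H0) : g * g ∈ commutator H0 := (mm g g).2 Iff.rfl

theorem cc {n x z : H0} (h : n * x = z * n) : x ∈ commutator H0 ↔ z ∈ commutator H0 := by
  have e : z = n * x * n⁻¹ := by rw [h]; group
  rw [e, mm, mm, inv_mem_iff]
  tauto

theorem relH {p : List ℕ × List ℕ} (h1 : chk p = true) (h2 : ∀ i ∈ p.1, i < 10) (h3 : ∀ i ∈ p.2, i < 10) :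
    (p.1.map yH).prod = (p.2.map yH).prod := by
  apply Subtype.ext
  rw [coe_list _ h2, coe_list _ h3]
  exact rel_of_chk h1 (fun i hi => by have := h2 i hi; omega) (fun i hi => by have := h3 i hi; omega)

theorem c91 : yH 1 ∈ commutator H0 ↔ yH 5 ∈ commutator H0 := by
  have h := relH (p := ([9, 1], [5, 9])) (by decide +kernel) (by decide) (by decide)
  simp only [List.map_cons, List.map_nil, List.prod_cons, List.prod_nil, mul_one] at h
  exact cc h

theorem c83 : yH 3 ∈ commutator H0 ↔ yH 5 ∈ commutator H0 := by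
  have h := relH (p := ([8, 3], [5, 8])) (by decide +kernel) (by decide) (by decide)
  simp only [List.map_cons, List.map_nil, List.prod_cons, List.prod_nil, mul_one] at h
  exact cc h

theorem m6 : yH 6 ∈ commutator H0 := by
  have h := relH (p := ([6], [1, 7, 1, 7, 1, 7, 7, 7, 1, 7, 7, 7])) (by decide +kernel) (by decide) (by decide)
  simp only [List.map_cons, List.map_nil, List.prod_cons, List.prod_nil, mul_one] at h
  have e : yH 6 = (yH 1 * yH 7) * (yH 1 * yH 7) * ((yH 1 * yH 7 * yH 7 * yH 7) * (yH 1 * yH 7 * yH 7 * yH 7)) := by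
    rw [h]; simp only [mul_assoc]
  rw [e]
  exact mul_mem (sq_mem _) (sq_mem _)

theorem m0 : yH 0 ∈ commutator H0 := by
  have h := relH (p := ([9, 0], [6, 9])) (by decide +kernel) (by decide) (by decide)
  simp only [List.map_cons, List.map_nil, List.prod_cons, List.prod_nil, mul_one] at h
  exact (cc h).2 m6

theorem m2 : yH 2 ∈ commutator H0 := by
  have h := relH (p := ([2], [0, 1, 3, 4, 0, 1, 3, 4])) (by decide +kernel) (by decide) (by decide)
  simp only [List.map_cons, List.map_nil, List.prod_cons, List.prod_nil, mul_one] at h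
  have e : yH 2 = (yH 0 * yH 1 * yH 3 * yH 4) * (yH 0 * yH 1 * yH 3 * yH 4) := by
    rw [h]; simp only [mul_assoc]
  rw [e]
  exact sq_mem _

theorem m4 : yH 4 ∈ commutator H0 := by
  have h := relH (p := ([9, 2], [4, 9])) (by decide +kernel) (by decide) (by decide)
  simp only [List.map_cons, List.map_nil, List.prod_cons, List.prod_nil, mul_one] at h
  exact (cc h).1 m2

theorem m_gs : ∀ g ∈ gs, (g.map yH).prod ∈ commutator H0 := by
  intro g hg
  simp only [gs, List.mem_cons, List.not_mem_nil, or_false] at hg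
  rcases hg with rfl | rfl | rfl | rfl | rfl
  · simpa using m0
  · simp only [List.map_cons, List.map_nil, List.prod_cons, List.prod_nil, mul_one]
    exact (mm _ _).2 (c91.trans c83.symm)
  · simp only [List.map_cons, List.map_nil, List.prod_cons, List.prod_nil, mul_one]
    exact (mm _ _).2 c91
  · simpa using m4
  · simpa using m6

theorem V_gs : ∀ g ∈ gs, (g.map yH).prod ∈ V yH 0 := by
  intro g hg
  have hlt : ∀ g ∈ gs, ∀ i ∈ g, i < 8 := by decide
  exact list_prod_mem yH g fun i hi => mem_V yH (Nat.zero_le _) (hlt g hg i hi)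

theorem cenTwo_abs (T : Subgroup H0) (hidx : T.index = 2) (hcT : Nat.card T = 2 ^ 11 * 3 ^ 3 * 5 ^ 2 * 13)
    (hm : ∀ g ∈ gs, (g.map yH).prod ∈ T) (hsq : yH 3 * yH 3 ∈ T) (hn : T.Normal) : CenTwo.CenTwo T := by
  have : Fact (Nat.Prime 2) := ⟨Nat.prime_two⟩
  set W : Subgroup T := (V yH 0).subgroupOf T with hW
  have hcV : Nat.card (V yH 0) = 4096 := card_V_yH
  -- the order of `W`
  have hcW : 2048 ≤ Nat.card W := by
    have h1 : Nat.card W = Nat.card (T ⊓ V yH 0 : Subgroup H0) := by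
      rw [hW, inf_comm, ← Subgroup.subgroupOf_map_subtype]
      exact (Nat.card_congr (((V yH 0).subgroupOf T).equivMapOfInjective T.subtype T.subtype_injective).toEquiv)
    have h2 : Nat.card (T ⊓ V yH 0 : Subgroup H0) * T.relIndex (V yH 0) = Nat.card (V yH 0) := by
      have h5 : Nat.card (T.subgroupOf (V yH 0)) * (T.subgroupOf (V yH 0)).index = Nat.card (V yH 0) :=
        Subgroup.card_mul_index _
      have h6 : Nat.card (T.subgroupOf (V yH 0)) = Nat.card (T ⊓ V yH 0 : Subgroup H0) := by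
        rw [← Subgroup.subgroupOf_map_subtype]
        exact (Nat.card_congr ((T.subgroupOf (V yH 0)).equivMapOfInjective (V yH 0).subtype
          (V yH 0).subtype_injective).toEquiv)
      rw [← h6]
      exact h5
    have h3 : T.relIndex (V yH 0) ∣ 2 := by
      have := Subgroup.relIndex_dvd_index_of_normal T (V yH 0)
      rwa [hidx] at this
    have h4 := Nat.le_of_dvd (by norm_num) h3
    rw [h1]
    rw [hcV] at h2
    nlinarith
  have hpW : IsPGroup 2 W := by
    have h1 : IsPGroup 2 (V yH 0) := IsPGroup.of_card (n := 12) (by rw [hcV]; norm_num)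
    exact h1.comap_of_injective T.subtype T.subtype_injective
  obtain ⟨S, hS⟩ := hpW.exists_le_sylow
  have hcS : Nat.card S = 2048 := by
    rw [S.card_eq_multiplicity, hcT]
    have e : (2 ^ 11 * 3 ^ 3 * 5 ^ 2 * 13 : ℕ).factorization 2 = 11 := by
      rw [show (2 ^ 11 * 3 ^ 3 * 5 ^ 2 * 13 : ℕ) = 2 ^ 11 * 8775 by norm_num,
        Nat.factorization_mul (by norm_num) (by norm_num), Finsupp.add_apply,
        Nat.Prime.factorization_pow Nat.prime_two, Nat.factorization_eq_zero_of_not_dvd (by norm_num)]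
      simp
    rw [e]; norm_num
  have hWS : W = S := by
    refine Subgroup.eq_of_le_of_card_ge hS ?_
    show Nat.card S ≤ _
    rw [hcS]; exact hcW
  refine ⟨S, ⟨yH 3 * yH 3, hsq⟩, ?_⟩
  rintro ⟨u, huT⟩ hu hc _
  have huS : (⟨u, huT⟩ : T) ∈ W := by rw [hWS]; exact hu
  have huV : u ∈ V yH 0 := huS
  have hmS : ∀ x : H0, x ∈ V yH 0 → ∀ hx : x ∈ T, (⟨x, hx⟩ : T) ∈ S := by
    intro x hx hxT
    have : (⟨x, hxT⟩ : T) ∈ W := hx
    rw [hWS] at this
    exact this
  have key : ((u : H0) : GL I52 (ZMod 2)) = 1 ∨ ((u : H0) : GL I52 (ZMod 2)) = yG 3 * yG 3 := by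
    apply cen_V
    · rw [← map_V]
      exact ⟨u, huV, rfl⟩
    · intro g hg
      have h1 := hc _ (hmS _ (V_gs g hg) (hm g hg))
      have h2 : (g.map yH).prod * u = u * (g.map yH).prod := by
        have h3 := Subtype.ext_iff.1 h1
        rw [Subgroup.coe_mul, Subgroup.coe_mul] at h3
        exact h3
      have hlt : ∀ g ∈ gs, ∀ i ∈ g, i < 10 := by decide +kernel
      rw [← coe_list g (hlt g hg), ← Subgroup.coe_mul, ← Subgroup.coe_mul, h2]
  rcases key with h | h
  · left
    apply Subtype.ext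
    exact Subtype.ext h
  · right
    apply Subtype.ext
    apply Subtype.ext
    show (u : GL I52 (ZMod 2)) = ((yH 3 * yH 3 : H0) : GL I52 (ZMod 2))
    rw [h, Subgroup.coe_mul, coe_yH (by norm_num)]

theorem cenTwo_H0 : CenTwo.CenTwo (commutator H0) :=
  cenTwo_abs (commutator H0) index_two H0_result.2.2.2 m_gs (sq_mem _) inferInstance

theorem of_iso {Y : Type*} [Group Y] [Finite Y] (h : CenTwo.CenTwo Y) {X : Type*} [Group X]
    (e : Nonempty (X ≃* Y)) : NoCenMove X := by
  obtain ⟨e⟩ := e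
  have : Finite X := Finite.of_equiv Y e.symm.toEquiv
  exact h.noCenMove.map e.symm

theorem cenTwo_aux (K : Subgroup (GL I52 (ZMod 2))) (hK : K = H0) : CenTwo.CenTwo (commutator K) := by
  subst hK
  exact cenTwo_H0

theorem finite_aux (K : Subgroup (GL I52 (ZMod 2))) : Finite (commutator K) := by
  have : Finite K := Subgroup.instFiniteSubtypeMem K
  exact Subgroup.instFiniteSubtypeMem _

theorem finite_tits : Finite Cfsg.Lie.TitsGroup := finite_aux (Cfsg.Lie.twistedF4 (ZMod 2) 1)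

/-- The centre of a Sylow 2-subgroup of the Tits group has at most one involution. -/
theorem cenTwo_tits : CenTwo.CenTwo Cfsg.Lie.TitsGroup := cenTwo_aux (Cfsg.Lie.twistedF4 (ZMod 2) 1) T0_eq_H0

end Cfsg.Agent.Omega.Lie.Cen.Tits

namespace Cfsg.Agent.Omega.Lie.Cen

open Cfsg Cfsg.Agent.Omega.Lie.CenTwo

/-- **(ZS), the Tits group** -/
theorem tits {X : Type*} [Group X] (h : Cfsg.Lie.IsoTits X) : NoCenMove X := by
  have hf := Tits.finite_tits
  exact Tits.of_iso Tits.cenTwo_tits h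

end Cfsg.Agent.Omega.Lie.Cen

end

section


/-!
# (ZS), the row `HS` (helper484)
-/

set_option autoImplicit false

namespace Cfsg.Agent.Omega.Lie.Cen

open Cfsg Cfsg.Agent.Omega.Lie.CenTwo Cfsg.Agent.KFacts.HS Cfsg.Agent.KFacts.HS.Cent
open Cfsg.Agent.HN Cfsg.Agent.HN.Pres Cfsg.Agent.HN.HS100 Cfsg.Agent.HN.H0Basic
open Cfsg.Agent.HN.P1408 hiding U
open Cfsg.Agent.HN.XMat Cfsg.Agent.HN.WMask

theorem sg_sq (e : Bool) : sg e * sg e = 1 := by
  rw [sg_mul]; cases e <;> rfl

theorem b_ne : (b : H0) ≠ 1 := by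
  intro h
  have h1 : sg true = sg false := h
  exact absurd (sg_inj h1) (by decide)

theorem b_ne_τ : (b : H0) ≠ τ := by
  intro h
  apply bτ_ne
  rw [h, τ_mul_τ]

theorem cenTwo_hs {L : Type*} [Group L] [Finite L] (D : Cfsg.Agent.KFacts.HS.Mod L) : CenTwo.CenTwo L := by
  have hE : IsPGroup 2 ((Rt.subgroupOf K).map D.π) := by
    apply IsPGroup.map
    intro x
    refine ⟨2, Subtype.ext (Subtype.ext ?_)⟩
    obtain ⟨m, hm, -, e, he⟩ := mem_Rt.1 (Subgroup.mem_subgroupOf.1 x.2)
    show ((x : K) : H0) ^ (2 ^ 2) = 1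
    rw [he]
    obtain ⟨e1, h1⟩ := R_sq m
    calc (R m * sg e) ^ (2 ^ 2) = (R m * (sg e * R m) * sg e) * (R m * (sg e * R m) * sg e) := by
          rw [show (2 : ℕ) ^ 2 = 4 by norm_num, pow_succ, pow_succ, pow_succ, pow_one]; group
      _ = ((R m * R m) * (sg e * sg e)) * ((R m * R m) * (sg e * sg e)) := by rw [R_sg]; group
      _ = 1 := by rw [h1, sg_sq, mul_one, sg_sq]
  refine cenTwo_of_centralizer hE (z := D.π ⟨b, b_mem_K⟩) ?_
  intro u hu huu
  obtain ⟨h, rfl⟩ := D.surj u
  have key : ∀ r ∈ Rt, (h : H0) * r * (h : H0)⁻¹ = r ∨ (h : H0) * r * (h : H0)⁻¹ = r * τ := by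
    intro r hr
    have hrK : r ∈ K := hr.2
    have h1 := hu (D.π ⟨r, hrK⟩) ⟨⟨r, hrK⟩, hr, rfl⟩
    rw [← map_mul, ← map_mul, eq_comm, D.eq_iff] at h1
    rcases h1 with h1 | h1
    · left
      have h2 : (h : H0) * r = r * h := h1
      rw [h2]; group
    · right
      have h2 : (h : H0) * r = r * h * τ := h1
      rw [h2, mul_assoc (r * (h : H0)), ← τ_comm]
      group
  have hU := key U U_mem_Rt
  have hb : (h : H0) * b = b * h := by
    rw [← mul_inv_eq_iff_eq_mul]
    have e : (h : H0) * b * (h : H0)⁻¹ = ((h : H0) * U * (h : H0)⁻¹) * ((h : H0) * U * (h : H0)⁻¹) := by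
      rw [← U_sq]; group
    rw [e]
    rcases hU with h1 | h1 <;> rw [h1]
    · exact U_sq
    · calc U * τ * (U * τ) = U * (τ * U) * τ := by group
        _ = U * (U * τ) * τ := by rw [← τ_comm]
        _ = (U * U) * (τ * τ) := by group
        _ = b := by rw [τ_mul_τ, mul_one, U_sq]
  have huu' : (h : H0) * h = 1 ∨ (h : H0) * h = τ := by
    rw [← map_mul] at huu
    exact (D.ker _).1 huu
  have hUU : ∀ e : Bool, U * sg e * (U * sg e) = b := by
    intro e
    have h1 : sg e * U = U * sg e := R_sg 28 e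
    calc U * sg e * (U * sg e) = U * (sg e * U) * sg e := by group
      _ = (U * U) * (sg e * sg e) := by rw [h1]; group
      _ = b := by rw [sg_sq, mul_one, U_sq]
  have hbad : (h : H0) * h ≠ b := by
    intro h1
    rcases huu' with h2 | h2
    · exact b_ne (h1.symm.trans h2)
    · exact b_ne_τ (h1.symm.trans h2)
  have fin : ∀ e : Bool, (h : H0) = sg e ∨ (h : H0) = sg e * τ → D.π h = 1 ∨ D.π h = D.π ⟨b, b_mem_K⟩ := by
    intro e he
    cases e
    · left
      rw [← map_one D.π, D.eq_iff]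
      exact he
    · right
      rw [D.eq_iff]
      exact he
  obtain ⟨e, h1 | h1 | h1 | h1⟩ := fixR hb key
  · exact fin e (Or.inl h1)
  · exact fin e (Or.inr (by rw [h1, τ_comm]))
  · exact absurd (by rw [h1]; exact hUU e) hbad
  · refine absurd ?_ hbad
    rw [h1]
    calc U * τ * sg e * (U * τ * sg e) = U * (τ * (sg e * U)) * τ * sg e := by group
      _ = U * ((sg e * U) * τ) * τ * sg e := by rw [τ_comm (sg e * U)]
      _ = U * sg e * (U * (τ * τ) * sg e) := by group
      _ = b := by rw [τ_mul_τ, mul_one, hUU e]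

theorem hs {X : Type*} [Group X] (h : Spor.IsoHS X) : NoCenMove X := by
  obtain ⟨D⟩ := exists_mod h
  have hf : Finite X := Nat.finite_of_card_ne_zero (by rw [Cfsg.Agent.KFacts.HS.card h]; norm_num)
  exact (cenTwo_hs D).noCenMove

end Cfsg.Agent.Omega.Lie.Cen

end
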